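import Groth.Agent.ResProp.EF.K679.TwR
import Groth.Agent.ResProp.EF.K496.Bc

/-!
# Twist and base change (S16912, G6c, [TW], helper679)

`k → A`, `X` an `A`-module with an `A`-linear coaction of the `k`-bialgebra `O`, `F` an `O`-comodule on the `k`-module `W`.
`bcM : X ⊗[k] W ≃ₗ[A] X ⊗[A] (A ⊗[k] W)` carries the tensor coaction of `(X, F)` to the tensor coaction of
`(K805.toR X, bcF A F)`, `bcF A F` = base change of `F` (a comodule over the `A`-bialgebra `A ⊗[k] O`).
-/

set_option autoImplicit false

universe u

open CategoryTheory TensorProduct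

noncomputable section

namespace Groth.Agent.ResProp.EF.K679.TwBC

open Groth.Agent.ResProp.EF.K679.Tw

variable {k : Type u} [CommRing k] {O : Type u} [CommRing O] [Bialgebra k O] {A : Type u} [CommRing A] [Algebra k A]
variable {W : Type u} [AddCommGroup W] [Module k W] {W' : Type u} [AddCommGroup W'] [Module k W']
variable {X : Type u} [AddCommGroup X] [Module k X] [Module A X] [IsScalarTower k A X]
variable {Y : Type u} [AddCommGroup Y] [Module k Y] [Module A Y] [IsScalarTower k A Y]

/-- The base change of a comodule. -/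
@[reducible] def bcF (A : Type u) [CommRing A] [Algebra k A] (F : HopfRep.Comod k O W) :
    HopfRep.Comod A (A ⊗[k] O) (A ⊗[k] W) :=
  @CoactBr.Comod.baseChange k A _ _ _ O _ _ _ W _ _ F

/-- `x ⊗ w ↦ x ⊗ (1 ⊗ w)` -/
def bcM (k : Type u) [CommRing k] (A : Type u) [CommRing A] [Algebra k A] (X : Type u) [AddCommGroup X]
    [Module k X] [Module A X] [IsScalarTower k A X] (W : Type u) [AddCommGroup W] [Module k W] :
    X ⊗[k] W ≃ₗ[A] X ⊗[A] (A ⊗[k] W) := (AlgebraTensorModule.cancelBaseChange k A A X W).symm

@[simp] lemma bcM_tmul (x : X) (w : W) : bcM k A X W (x ⊗ₜ[k] w) = x ⊗ₜ[A] ((1 : A) ⊗ₜ[k] w) :=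
  AlgebraTensorModule.cancelBaseChange_symm_tmul _ _ _ _ _

lemma bcM_nat (f : X →ₗ[A] Y) (z : X ⊗[k] W) :
    bcM k A Y W ((f.restrictScalars k).rTensor W z) = f.rTensor (A ⊗[k] W) (bcM k A X W z) := by
  induction z using TensorProduct.induction_on with
  | zero => simp only [map_zero]
  | add x y hx hy => simp only [map_add, hx, hy]
  | tmul x w => rw [bcM_tmul, LinearMap.rTensor_tmul, LinearMap.rTensor_tmul, bcM_tmul]; rfl

lemma bcM_nat' (g : W →ₗ[k] W') (z : X ⊗[k] W) :
    bcM k A X W' (g.lTensor X z) = (g.baseChange A).lTensor X (bcM k A X W z) := by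
  induction z using TensorProduct.induction_on with
  | zero => simp only [map_zero]
  | add x y hx hy => simp only [map_add, hx, hy]
  | tmul x w =>
    rw [bcM_tmul, LinearMap.lTensor_tmul, LinearMap.lTensor_tmul, bcM_tmul, LinearMap.baseChange_tmul]

/-- The base-changed map is a comodule map. -/
lemma bcF_nat (F : HopfRep.Comod k O W) (F' : HopfRep.Comod k O W') (g : W →ₗ[k] W')
    (hg : ∀ w, F'.coact (g w) = g.rTensor O (F.coact w)) (z : A ⊗[k] W) :
    (bcF A F').coact (g.baseChange A z) = (g.baseChange A).rTensor (A ⊗[k] O) ((bcF A F).coact z) := by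
  induction z using TensorProduct.induction_on with
  | zero => simp only [map_zero]
  | add x y hx hy => simp only [map_add, hx, hy]
  | tmul a w =>
    rw [LinearMap.baseChange_tmul, CoactBr.baseChange_coact_tmul, CoactBr.baseChange_coact_tmul]
    change AlgebraTensorModule.tensorTensorTensorComm k A k A A A W' O
        (((1 : A) ⊗ₜ[A] a) ⊗ₜ[k] F'.coact (g w)) =
      (g.baseChange A).rTensor (A ⊗[k] O) (AlgebraTensorModule.tensorTensorTensorComm k A k A A A W O
        (((1 : A) ⊗ₜ[A] a) ⊗ₜ[k] F.coact w))
    rw [hg]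
    generalize F.coact w = u
    induction u using TensorProduct.induction_on with
    | zero => simp only [map_zero, TensorProduct.tmul_zero]
    | add x y hx hy => simp only [map_add, TensorProduct.tmul_add, hx, hy]
    | tmul w b => simp

lemma aux (x : X ⊗[k] O) (z : W ⊗[k] O) :
    K805.up k O (bcM k A X W).toLinearMap (bb (x ⊗ₜ[k] z)) =
      bb (K805.up k O (LinearMap.id : X →ₗ[A] X) x ⊗ₜ[A]
        AlgebraTensorModule.tensorTensorTensorComm k A k A A A W O (((1 : A) ⊗ₜ[A] (1 : A)) ⊗ₜ[k] z)) := by
  induction x using TensorProduct.induction_on with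
  | zero => simp only [map_zero, TensorProduct.zero_tmul]
  | add x y hx hy => simp only [map_add, TensorProduct.add_tmul, hx, hy]
  | tmul x a =>
    induction z using TensorProduct.induction_on with
    | zero => simp only [map_zero, TensorProduct.tmul_zero]
    | add x y hx hy => simp only [map_add, TensorProduct.tmul_add, hx, hy]
    | tmul w b =>
      rw [bb_tmul, K805.up_tmul, K805.up_tmul, AlgebraTensorModule.tensorTensorTensorComm_tmul]
      erw [bb_tmul]
      rw [Algebra.TensorProduct.tmul_mul_tmul, one_mul]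
      erw [bcM_tmul]
      rfl

/-- **`bcM` carries the twist over `k` to the twist over `A`.** -/
theorem bc_tensor (c : HopfRep.Comod k O X) (hc : K805.RLin k O A c) (F : HopfRep.Comod k O W) (z : X ⊗[k] W) :
    K805.up k O (bcM k A X W).toLinearMap ((ComodTens.Comod.tensor c F).coact z) =
      (ComodTens.Comod.tensor (K805.toR c hc) (bcF A F)).coact (bcM k A X W z) := by
  induction z using TensorProduct.induction_on with
  | zero => simp only [map_zero]
  | add x y hx hy => simp only [map_add, hx, hy]
  | tmul x w =>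
    rw [bcM_tmul, tensor_coact, tensor_coact, aux]
    rfl

end Groth.Agent.ResProp.EF.K679.TwBC
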