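import Groth.Prelude.Def_ComodTens
import Groth.Prelude.Def_Hoch

/-!
# Twists and the shear isomorphism, module level (S16912, G6c, [TW])

`V`, `W` comodules over a commutative bialgebra (Hopf algebra) `O` over `k`.
* `tensor_nat` : the coaction of `V ⊗ W` is natural in both comodules.
* `shear c : V ⊗ O → V ⊗ O`, `v ⊗ x ↦ v₀ ⊗ v₁ x`; `shearInv c : v ⊗ x ↦ v₀ ⊗ S(v₁) x`: mutually inverse, natural,
  `shear` is a morphism from `V ⊗ O` (diagonal coaction) to the cofree comodule `Ind V`, compatible with the counits.
-/

set_option autoImplicit false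

universe u v w w' w₁ w₂

open TensorProduct

noncomputable section

namespace Groth.Agent.ResProp.EF.K679.Tw

section Tensor

variable {k : Type u} [CommRing k] {O : Type v} [CommRing O] [Bialgebra k O]
  {V : Type w} [AddCommGroup V] [Module k V] {W : Type w'} [AddCommGroup W] [Module k W]
  {V' : Type w₁} [AddCommGroup V'] [Module k V'] {W' : Type w₂} [AddCommGroup W'] [Module k W']

/-- `(v ⊗ a) ⊗ (f ⊗ b) ↦ (v ⊗ f) ⊗ ab`. -/
def bb : (V ⊗[k] O) ⊗[k] (W ⊗[k] O) →ₗ[k] (V ⊗[k] W) ⊗[k] O :=
  TensorProduct.map LinearMap.id (LinearMap.mul' k O) ∘ₗ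
    (AlgebraTensorModule.tensorTensorTensorComm k k k k V O W O).toLinearMap

@[simp] lemma bb_tmul (v : V) (a : O) (f : W) (b : O) :
    bb ((v ⊗ₜ[k] a) ⊗ₜ[k] (f ⊗ₜ[k] b)) = (v ⊗ₜ[k] f) ⊗ₜ[k] (a * b) := by
  simp [bb]

lemma tensor_coact (c : HopfRep.Comod k O V) (d : HopfRep.Comod k O W) (v : V) (f : W) :
    (ComodTens.Comod.tensor c d).coact (v ⊗ₜ[k] f) = bb (c.coact v ⊗ₜ[k] d.coact f) := rfl

lemma bb_map (f : V →ₗ[k] V') (g : W →ₗ[k] W') (z : V ⊗[k] O) (w : W ⊗[k] O) :
    bb (f.rTensor O z ⊗ₜ[k] g.rTensor O w) = (TensorProduct.map f g).rTensor O (bb (z ⊗ₜ[k] w)) := by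
  induction z using TensorProduct.induction_on with
  | zero => simp only [map_zero, TensorProduct.zero_tmul]
  | add x y hx hy => simp only [map_add, TensorProduct.add_tmul, hx, hy]
  | tmul v a =>
    induction w using TensorProduct.induction_on with
    | zero => simp only [map_zero, TensorProduct.tmul_zero]
    | add x y hx hy => simp only [map_add, TensorProduct.tmul_add, hx, hy]
    | tmul f b => simp only [LinearMap.rTensor_tmul, bb_tmul, TensorProduct.map_tmul]

/-- The diagonal coaction is natural in both comodules. -/
theorem tensor_nat (c : HopfRep.Comod k O V) (c' : HopfRep.Comod k O V') (d : HopfRep.Comod k O W)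
    (d' : HopfRep.Comod k O W') (f : V →ₗ[k] V') (g : W →ₗ[k] W')
    (hf : ∀ v, c'.coact (f v) = f.rTensor O (c.coact v)) (hg : ∀ w, d'.coact (g w) = g.rTensor O (d.coact w))
    (z : V ⊗[k] W) : (ComodTens.Comod.tensor c' d').coact (TensorProduct.map f g z) =
      (TensorProduct.map f g).rTensor O ((ComodTens.Comod.tensor c d).coact z) := by
  induction z using TensorProduct.induction_on with
  | zero => simp only [map_zero]
  | add x y hx hy => simp only [map_add, hx, hy]
  | tmul v w => rw [TensorProduct.map_tmul, tensor_coact, tensor_coact, hf, hg, bb_map]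

end Tensor

section Shear

variable {k : Type u} [CommRing k] {O : Type v} [CommRing O] [Bialgebra k O]
  {V : Type w} [AddCommGroup V] [Module k V] {V' : Type w₁} [AddCommGroup V'] [Module k V']

/-- `v ⊗ x ↦ v₀ ⊗ v₁ x` -/
def shear (c : HopfRep.Comod k O V) : V ⊗[k] O →ₗ[k] V ⊗[k] O :=
  (LinearMap.mul' k O).lTensor V ∘ₗ (TensorProduct.assoc k V O O).toLinearMap ∘ₗ c.coact.rTensor O

lemma shear_aux (z : V ⊗[k] O) (x : O) :
    (LinearMap.mul' k O).lTensor V (TensorProduct.assoc k V O O (z ⊗ₜ[k] x)) =
      (LinearMap.mulRight k x).lTensor V z := by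
  induction z using TensorProduct.induction_on with
  | zero => simp only [map_zero, TensorProduct.zero_tmul]
  | add x y hx hy => simp only [map_add, TensorProduct.add_tmul, hx, hy]
  | tmul v a => simp

lemma shear_tmul (c : HopfRep.Comod k O V) (v : V) (x : O) :
    shear c (v ⊗ₜ[k] x) = (LinearMap.mulRight k x).lTensor V (c.coact v) := by
  rw [shear, LinearMap.comp_apply, LinearMap.comp_apply, LinearMap.rTensor_tmul]
  exact shear_aux _ _

/-- The shear is natural. -/
theorem shear_nat (c : HopfRep.Comod k O V) (c' : HopfRep.Comod k O V') (f : V →ₗ[k] V')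
    (hf : ∀ v, c'.coact (f v) = f.rTensor O (c.coact v)) (z : V ⊗[k] O) :
    shear c' (f.rTensor O z) = f.rTensor O (shear c z) := by
  induction z using TensorProduct.induction_on with
  | zero => simp only [map_zero]
  | add x y hx hy => simp only [map_add, hx, hy]
  | tmul v x =>
    rw [LinearMap.rTensor_tmul, shear_tmul, shear_tmul, hf, ComodTens.lTensor_rTensor_comm]

/-- The shear is compatible with the counits. -/
theorem counit_shear (c : HopfRep.Comod k O V) (z : V ⊗[k] O) :
    TensorProduct.rid k V ((CoalgebraStruct.counit (R := k) (A := O)).lTensor V (shear c z)) =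
      TensorProduct.rid k V ((CoalgebraStruct.counit (R := k) (A := O)).lTensor V z) := by
  induction z using TensorProduct.induction_on with
  | zero => simp only [map_zero]
  | add x y hx hy => simp only [map_add, hx, hy]
  | tmul v x =>
    have h : ∀ z : V ⊗[k] O, TensorProduct.rid k V ((CoalgebraStruct.counit (R := k) (A := O)).lTensor V
        ((LinearMap.mulRight k x).lTensor V z)) = Coalgebra.counit (R := k) x •
          TensorProduct.rid k V ((CoalgebraStruct.counit (R := k) (A := O)).lTensor V z) := by
      intro z
      induction z using TensorProduct.induction_on with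
      | zero => simp only [map_zero, smul_zero]
      | add x y hx hy => simp only [map_add, hx, hy, smul_add]
      | tmul v a =>
        simp only [LinearMap.lTensor_tmul, LinearMap.mulRight_apply, TensorProduct.rid_tmul]
        change Coalgebra.counit (R := k) (a * x) • v = Coalgebra.counit (R := k) x • Coalgebra.counit (R := k) a • v
        rw [Bialgebra.counit_mul, mul_comm, mul_smul]
    have h2 : (CoalgebraStruct.counit (R := k) (A := O)).lTensor V (c.coact v) = v ⊗ₜ[k] (1 : k) :=
      LinearMap.congr_fun c.counit_comp v
    rw [shear_tmul, h, h2, LinearMap.lTensor_tmul, TensorProduct.rid_tmul, TensorProduct.rid_tmul, one_smul]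

lemma shear_bb (c : HopfRep.Comod k O V) (z : V ⊗[k] O) (w : O ⊗[k] O) :
    (shear c).rTensor O (bb (z ⊗ₜ[k] w)) = (TensorProduct.assoc k V O O).symm
      ((LinearMap.mulRight k w).lTensor V (TensorProduct.assoc k V O O (c.coact.rTensor O z))) := by
  induction z using TensorProduct.induction_on with
  | zero => simp only [map_zero, TensorProduct.zero_tmul]
  | add x y hx hy => simp only [map_add, TensorProduct.add_tmul, hx, hy]
  | tmul v a =>
    induction w using TensorProduct.induction_on with
    | zero => simp [TensorProduct.tmul_zero]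
    | add x y hx hy =>
      have hadd : LinearMap.mulRight k (x + y) = LinearMap.mulRight k x + LinearMap.mulRight k y := by
        apply LinearMap.ext; intro t; simp [mul_add]
      rw [TensorProduct.tmul_add, map_add, map_add, hx, hy, hadd, LinearMap.lTensor_add, LinearMap.add_apply,
        map_add]
    | tmul p q =>
      rw [bb_tmul, LinearMap.rTensor_tmul, LinearMap.rTensor_tmul, shear_tmul]
      generalize c.coact v = u
      induction u using TensorProduct.induction_on with
      | zero => simp only [map_zero, TensorProduct.zero_tmul]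
      | add x y hx hy => simp only [map_add, TensorProduct.add_tmul, hx, hy]
      | tmul m b => simp

/-- The shear is a morphism from `V ⊗ O` with the diagonal coaction to the cofree comodule. -/
theorem shear_hom (c : HopfRep.Comod k O V) (z : V ⊗[k] O) :
    Hoch.Ind.coactAux k O V (shear c z) = (shear c).rTensor O
      ((ComodTens.Comod.tensor c (HopfRep.Comod.regular k O)).coact z) := by
  induction z using TensorProduct.induction_on with
  | zero => simp only [map_zero]
  | add x y hx hy => simp only [map_add, hx, hy]
  | tmul v x =>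
    have hc : TensorProduct.assoc k V O O (c.coact.rTensor O (c.coact v)) =
        (CoalgebraStruct.comul (R := k) (A := O)).lTensor V (c.coact v) := LinearMap.congr_fun c.coassoc v
    rw [tensor_coact, shear_bb, hc, shear_tmul]
    change (TensorProduct.assoc k V O O).symm ((Coalgebra.comul (R := k) (A := O)).lTensor V
      ((LinearMap.mulRight k x).lTensor V (c.coact v))) = _
    have e1 : (Coalgebra.comul (R := k) (A := O)).lTensor V ((LinearMap.mulRight k x).lTensor V (c.coact v)) =
        (Coalgebra.comul (R := k) (A := O) ∘ₗ LinearMap.mulRight k x).lTensor V (c.coact v) := by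
      rw [LinearMap.lTensor_comp, LinearMap.comp_apply]
    have e2 : (LinearMap.mulRight k (Coalgebra.comul (R := k) x)).lTensor V
        ((Coalgebra.comul (R := k) (A := O)).lTensor V (c.coact v)) =
        (LinearMap.mulRight k (Coalgebra.comul (R := k) x) ∘ₗ Coalgebra.comul (R := k) (A := O)).lTensor V
          (c.coact v) := by
      rw [LinearMap.lTensor_comp, LinearMap.comp_apply]
    rw [e1]
    refine Eq.trans ?_ (congrArg (TensorProduct.assoc k V O O).symm e2.symm)
    refine congrArg (fun f => (TensorProduct.assoc k V O O).symm (LinearMap.lTensor V f (c.coact v))) ?_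
    apply LinearMap.ext
    intro a
    exact Bialgebra.comul_mul a x

end Shear

section Inv

variable {k : Type u} [CommRing k] {O : Type v} [CommRing O] [HopfAlgebra k O]
  {V : Type w} [AddCommGroup V] [Module k V]

/-- `v ⊗ x ↦ v₀ ⊗ S(v₁) x` -/
def shearInv (c : HopfRep.Comod k O V) : V ⊗[k] O →ₗ[k] V ⊗[k] O :=
  (LinearMap.mul' k O ∘ₗ (HopfAlgebra.antipode k).rTensor O).lTensor V ∘ₗ
    (TensorProduct.assoc k V O O).toLinearMap ∘ₗ c.coact.rTensor O

lemma shearInv_tmul (c : HopfRep.Comod k O V) (v : V) (x : O) :
    shearInv c (v ⊗ₜ[k] x) = (LinearMap.mulRight k x ∘ₗ HopfAlgebra.antipode k).lTensor V (c.coact v) := by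
  rw [shearInv, LinearMap.comp_apply, LinearMap.comp_apply, LinearMap.rTensor_tmul]
  generalize c.coact v = z
  induction z using TensorProduct.induction_on with
  | zero => simp only [map_zero, TensorProduct.zero_tmul]
  | add x y hx hy => simp only [map_add, TensorProduct.add_tmul, hx, hy]
  | tmul v a => simp

lemma counit_aux (c : HopfRep.Comod k O V) (v : V) (x : O) :
    ((LinearMap.toSpanSingleton k O x) ∘ₗ (CoalgebraStruct.counit (R := k) (A := O))).lTensor V (c.coact v) =
      v ⊗ₜ[k] x := by
  have h2 : (CoalgebraStruct.counit (R := k) (A := O)).lTensor V (c.coact v) = v ⊗ₜ[k] (1 : k) :=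
    LinearMap.congr_fun c.counit_comp v
  rw [LinearMap.lTensor_comp, LinearMap.comp_apply, h2, LinearMap.lTensor_tmul, LinearMap.toSpanSingleton_apply,
    one_smul]

theorem shear_shearInv (c : HopfRep.Comod k O V) (z : V ⊗[k] O) : shear c (shearInv c z) = z := by
  induction z using TensorProduct.induction_on with
  | zero => simp only [map_zero]
  | add x y hx hy => simp only [map_add, hx, hy]
  | tmul v x =>
    have hc : TensorProduct.assoc k V O O (c.coact.rTensor O (c.coact v)) =
        (CoalgebraStruct.comul (R := k) (A := O)).lTensor V (c.coact v) := LinearMap.congr_fun c.coassoc v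
    have h : ∀ z : V ⊗[k] O, shear c ((LinearMap.mulRight k x ∘ₗ HopfAlgebra.antipode k).lTensor V z) =
        (LinearMap.mulRight k x ∘ₗ LinearMap.mul' k O ∘ₗ (HopfAlgebra.antipode k).lTensor O).lTensor V
          (TensorProduct.assoc k V O O (c.coact.rTensor O z)) := by
      intro z
      induction z using TensorProduct.induction_on with
      | zero => simp only [map_zero]
      | add x y hx hy => simp only [map_add, hx, hy]
      | tmul v a =>
        rw [LinearMap.lTensor_tmul, shear_tmul, LinearMap.rTensor_tmul]
        generalize c.coact v = u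
        induction u using TensorProduct.induction_on with
        | zero => simp only [map_zero, TensorProduct.zero_tmul]
        | add x y hx hy => simp only [map_add, TensorProduct.add_tmul, hx, hy]
        | tmul m b => simp [mul_assoc]
    rw [shearInv_tmul, h, hc, ← LinearMap.comp_apply (LinearMap.lTensor _ _), ← LinearMap.lTensor_comp]
    refine Eq.trans (congrArg (fun f => LinearMap.lTensor V f (c.coact v)) ?_) (counit_aux c v x)
    apply LinearMap.ext
    intro a
    have ha : LinearMap.mul' k O ((HopfAlgebra.antipode k).lTensor O (Coalgebra.comul (R := k) a)) =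
        algebraMap k O (Coalgebra.counit (R := k) a) := LinearMap.congr_fun HopfAlgebra.mul_antipode_lTensor_comul a
    change LinearMap.mul' k O ((HopfAlgebra.antipode k).lTensor O (Coalgebra.comul (R := k) a)) * x =
      Coalgebra.counit (R := k) a • x
    rw [ha, Algebra.smul_def]

theorem shearInv_shear (c : HopfRep.Comod k O V) (z : V ⊗[k] O) : shearInv c (shear c z) = z := by
  induction z using TensorProduct.induction_on with
  | zero => simp only [map_zero]
  | add x y hx hy => simp only [map_add, hx, hy]
  | tmul v x =>
    have hc : TensorProduct.assoc k V O O (c.coact.rTensor O (c.coact v)) =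
        (CoalgebraStruct.comul (R := k) (A := O)).lTensor V (c.coact v) := LinearMap.congr_fun c.coassoc v
    have h : ∀ z : V ⊗[k] O, shearInv c ((LinearMap.mulRight k x).lTensor V z) =
        (LinearMap.mulRight k x ∘ₗ LinearMap.mul' k O ∘ₗ (HopfAlgebra.antipode k).rTensor O).lTensor V
          (TensorProduct.assoc k V O O (c.coact.rTensor O z)) := by
      intro z
      induction z using TensorProduct.induction_on with
      | zero => simp only [map_zero]
      | add x y hx hy => simp only [map_add, hx, hy]
      | tmul v a =>
        rw [LinearMap.lTensor_tmul, shearInv_tmul, LinearMap.rTensor_tmul]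
        generalize c.coact v = u
        induction u using TensorProduct.induction_on with
        | zero => simp only [map_zero, TensorProduct.zero_tmul]
        | add x y hx hy => simp only [map_add, TensorProduct.add_tmul, hx, hy]
        | tmul m b => simp [mul_assoc]
    rw [shear_tmul, h, hc, ← LinearMap.comp_apply (LinearMap.lTensor _ _), ← LinearMap.lTensor_comp]
    refine Eq.trans (congrArg (fun f => LinearMap.lTensor V f (c.coact v)) ?_) (counit_aux c v x)
    apply LinearMap.ext
    intro a
    have ha : LinearMap.mul' k O ((HopfAlgebra.antipode k).rTensor O (Coalgebra.comul (R := k) a)) =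
        algebraMap k O (Coalgebra.counit (R := k) a) := LinearMap.congr_fun HopfAlgebra.mul_antipode_rTensor_comul a
    change LinearMap.mul' k O ((HopfAlgebra.antipode k).rTensor O (Coalgebra.comul (R := k) a)) * x =
      Coalgebra.counit (R := k) a • x
    rw [ha, Algebra.smul_def]

theorem shearInv_nat {V' : Type w₁} [AddCommGroup V'] [Module k V'] (c : HopfRep.Comod k O V)
    (c' : HopfRep.Comod k O V') (f : V →ₗ[k] V') (hf : ∀ v, c'.coact (f v) = f.rTensor O (c.coact v))
    (z : V ⊗[k] O) : shearInv c' (f.rTensor O z) = f.rTensor O (shearInv c z) := by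
  induction z using TensorProduct.induction_on with
  | zero => simp only [map_zero]
  | add x y hx hy => simp only [map_add, hx, hy]
  | tmul v x =>
    rw [LinearMap.rTensor_tmul, shearInv_tmul, shearInv_tmul, hf, ComodTens.lTensor_rTensor_comm]

end Inv

/-! ### Linearity over a `k`-algebra `A` acting on the comodule, and semilinear maps -/
section Lin

variable {k : Type u} [CommRing k] {A : Type u} [CommRing A] [Algebra k A]
  {V : Type w} [AddCommGroup V] [Module k V] [Module A V] [IsScalarTower k A V]

/-- multiplication by `a`, as a `k`-linear map -/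
def ls (k : Type u) [CommRing k] [Algebra k A] (V : Type w) [AddCommGroup V] [Module k V] [Module A V]
    [IsScalarTower k A V] (a : A) : V →ₗ[k] V := (LinearMap.lsmul A V a).restrictScalars k

@[simp] lemma ls_apply (a : A) (v : V) : ls k V a v = a • v := rfl

lemma ls_rTensor {W : Type w'} [AddCommGroup W] [Module k W] (a : A) (z : V ⊗[k] W) :
    (ls k V a).rTensor W z = a • z := by
  induction z using TensorProduct.induction_on with
  | zero => simp only [map_zero, smul_zero]
  | add x y hx hy => simp only [map_add, smul_add, hx, hy]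
  | tmul v w => rfl

lemma map_ls {W : Type w'} [AddCommGroup W] [Module k W] (a : A) (z : V ⊗[k] W) :
    TensorProduct.map (ls k V a) LinearMap.id z = a • z := ls_rTensor a z

variable {O : Type v} [CommRing O] [Bialgebra k O]

/-- `A`-linearity of the diagonal coaction on `V ⊗ W`. -/
theorem tensor_smul {W : Type w'} [AddCommGroup W] [Module k W] (c : HopfRep.Comod k O V)
    (d : HopfRep.Comod k O W) (hc : ∀ (a : A) (v : V), c.coact (a • v) = a • c.coact v) (a : A) (z : V ⊗[k] W) :
    (ComodTens.Comod.tensor c d).coact (a • z) = a • (ComodTens.Comod.tensor c d).coact z := by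
  have h := tensor_nat c c d d (ls k V a) LinearMap.id (fun v => by rw [ls_apply, hc, ls_rTensor])
    (fun w => by rw [LinearMap.rTensor_id]; rfl) z
  rw [map_ls] at h
  rw [h]
  have e : TensorProduct.map (ls k V a) (LinearMap.id : W →ₗ[k] W) = ls k (V ⊗[k] W) a :=
    LinearMap.ext fun z => map_ls a z
  rw [e, ls_rTensor]

/-- `A`-linearity of the shear. -/
theorem shear_smul (c : HopfRep.Comod k O V) (hc : ∀ (a : A) (v : V), c.coact (a • v) = a • c.coact v) (a : A)
    (z : V ⊗[k] O) : shear c (a • z) = a • shear c z := by
  rw [← ls_rTensor, shear_nat c c (ls k V a) (fun v => by rw [ls_apply, hc, ls_rTensor]), ls_rTensor]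

end Lin

section LinInv

variable {k : Type u} [CommRing k] {A : Type u} [CommRing A] [Algebra k A]
  {V : Type w} [AddCommGroup V] [Module k V] [Module A V] [IsScalarTower k A V]
  {O : Type v} [CommRing O] [HopfAlgebra k O]

/-- **the shear**, as an `A`-linear isomorphism `V ⊗ O ≃ V ⊗ O` (diagonal coaction to cofree coaction). -/
def shearEquiv (c : HopfRep.Comod k O V) (hc : ∀ (a : A) (v : V), c.coact (a • v) = a • c.coact v) :
    V ⊗[k] O ≃ₗ[A] V ⊗[k] O where
  toFun := shear c
  invFun := shearInv c
  left_inv := shearInv_shear c
  right_inv := shear_shearInv c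
  map_add' := map_add _
  map_smul' a z := shear_smul c hc a z

@[simp] lemma shearEquiv_apply (c : HopfRep.Comod k O V) (hc : ∀ (a : A) (v : V), c.coact (a • v) = a • c.coact v)
    (z : V ⊗[k] O) : shearEquiv c hc z = shear c z := rfl

@[simp] lemma shearEquiv_symm_apply (c : HopfRep.Comod k O V)
    (hc : ∀ (a : A) (v : V), c.coact (a • v) = a • c.coact v)
    (z : V ⊗[k] O) : (shearEquiv c hc).symm z = shearInv c z := rfl

end LinInv

end Groth.Agent.ResProp.EF.K679.Tw
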