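import Groth.Agent.ResProp.EF.K679.Theta
import Groth.Agent.ResProp.EF.K5.Tw
import Groth.Agent.ResProp.EF.K118.TwC

/-!
# `tw s F ⋙ uE ≅ uE ⋙ twR (bcF R F)` for 5's and 118's `tw` (S16912, G6c, (I8), helper679)
-/

set_option autoImplicit false
set_option linter.dupNamespace false

universe u

open CategoryTheory CategoryTheory.Limits Opposite TensorProduct

noncomputable section

namespace Groth.Agent.ResProp.EF.K679.Theta

open EF56 K742 K741.RP K140
open Groth.Agent.ResProp.EF.K679.Tw Groth.Agent.ResProp.EF.K679.TwR Groth.Agent.ResProp.EF.K679.TwBC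

variable {k : Type u} [CommRing k] {A : NFᵒᵖ ⥤ CommRingCat.{u}} (s : K742.KS k A)
variable [Algebra k (A.obj (op (⟨0⟩ : NF)))]
  (hs : ∀ c : k, s.κ (op ⟨0⟩) c = algebraMap k (A.obj (op (⟨0⟩ : NF))) c)
variable {O : Type u} [CommRing O] [Bialgebra k O] {W : Type u} [AddCommGroup W] [Module k W]
  (F : HopfRep.Comod k O W)

omit [Algebra k (A.obj (op (⟨0⟩ : NF)))] in
/-- the criterion for the identity as comparison -/
theorem isTw_refl (M : (GO s O).Coalgebra) (a : (tensC s W).obj M.A ⟶ (GO s O).obj ((tensC s W).obj M.A)) (h1 h2)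
    (h : ∀ (x : (vst A).obj M.A) (w : W), ((vst A).map a).hom (TM.tm (s.κ (op ⟨0⟩)) x w) =
      K5.bbL (s.κ (op ⟨0⟩)) (((vst A).map M.a).hom x) (F.coact w)) :
    IsTw s F M (Comonad.Coalgebra.mk ((tensC s W).obj M.A) a h1 h2) (Iso.refl _) := by
  intro x w
  have e : (Iso.refl ((tensC s W).obj M.A)).inv ≫ a ≫ (GO s O).map (Iso.refl ((tensC s W).obj M.A)).hom = a := by
    rw [Iso.refl_inv, Iso.refl_hom, Category.id_comp, (GO s O).toFunctor.map_id, Category.comp_id]
  exact (congrArg (fun f : (tensC s W).obj M.A ⟶ (GO s O).obj ((tensC s W).obj M.A) =>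
    ((vst A).map f).hom (TM.tm (s.κ (op ⟨0⟩)) x w)) e).trans (h x w)

/-- **theta for 5's `tw`** -/
def theta5 : K5.tw s F ⋙ uE s hs O ≅ uE s hs O ⋙ twR (bcF (A.obj (op (⟨0⟩ : NF))) F) :=
  theta s hs F (K5.tw s F) (Iso.refl _) fun M => isTw_refl s F M ((K5.tw s F).obj M).a _ _ fun _ _ => rfl

theorem Q_eq {R : Type u} [CommRing R] (κ : k →+* R) {X : Type u} [AddCommGroup X] [Module R X] (y : TM κ X O)
    (z : W ⊗[k] O) : K118.TwC.Q κ y z = K5.bbL κ y z := by
  induction y using TM.induction with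
  | zero => rw [K5.bbL_zero_left, map_zero]; rfl
  | add x y hx hy => rw [K5.bbL_add_left, map_add, AddMonoidHom.add_apply, hx, hy]
  | tm m a =>
    rw [K118.TwC.Q_tm]
    induction z using TensorProduct.induction_on with
    | zero => rw [K5.bbL_zero_right, map_zero, map_zero]
    | add x y hx hy => rw [K5.bbL_add_right, map_add, map_add, hx, hy]
    | tmul w b => rw [K5.bbL_tm, K118.TwC.mo_tmul, K118.TwC.J_tmul]

/-- **theta for 118's `tw`** -/
def theta118 : K118.TwC.tw s F ⋙ uE s hs O ≅ uE s hs O ⋙ twR (bcF (A.obj (op (⟨0⟩ : NF))) F) :=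
  theta s hs F (K118.TwC.tw s F) (Iso.refl _) fun M => isTw_refl s F M ((K118.TwC.tw s F).obj M).a _ _ fun x w => by
    refine (congrArg (K118.TwC.str (s.κ (op ⟨0⟩)) ((vst A).obj M.A) F)
      (TM.map_tm (s.κ (op ⟨0⟩)) (lv M.a.hom (op ⟨0⟩)) (LinearMap.id : W →ₗ[k] W) x w)).trans ?_
    exact (K118.TwC.str_tm (s.κ (op ⟨0⟩)) F _ w).trans (Q_eq _ _ _)

end Groth.Agent.ResProp.EF.K679.Theta
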