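import Groth.Agent.ResProp.EF.K679.TwR
import Groth.Agent.ResProp.EF.K496.Gamma

/-!
# `(M ⊗ F) ⊗ N = (M ⊗ N) ⊗ F` (S16912, G6c, [TW], helper679)

`wN F N : twR F ⋙ τ_N ≅ τ_N ⋙ twR F` for `τ_N = (K945.sGO R O).bifunctor.flip.obj N`, the tensor product with a module `N`
with trivial coaction; the input `w` of 496's `gammaW`; `gammaTw F N` is the result.
-/

set_option autoImplicit false

universe u

open CategoryTheory CategoryTheory.Limits TensorProduct

noncomputable section

namespace Groth.Agent.ResProp.EF.K679.TwR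

open Groth.Agent.ResProp.EF.K496 Groth.Agent.ResProp.EF.K679.Tw

variable {R : Type u} [CommRing R] {O : Type u} [CommRing O] [Bialgebra R O]

/-- tensoring with a module -/
abbrev tau (O : Type u) [CommRing O] [Bialgebra R O] (N : ModuleCat.{u} R) :
    (GO R O).Coalgebra ⥤ (GO R O).Coalgebra :=
  (K945.sGO R O).bifunctor.flip.obj N

lemma coact_tau (M : (GO R O).Coalgebra) (N : ModuleCat.{u} R) (z : M.A ⊗[R] N) :
    (toComod ((K945.sGO R O).coalg M N)).coact z =
      (ComodTens.Comod.tensor (toComod M) (HopfRep.Comod.trivial (k := R) (A := O) N)).coact z := by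
  rw [K945.toComod_coalg]

variable {W : Type u} [AddCommGroup W] [Module R W] (F : HopfRep.Comod R O W)

/-- `(M ⊗ F) ⊗ N ≅ (M ⊗ N) ⊗ F`, `(m ⊗ w) ⊗ n ↦ (m ⊗ n) ⊗ w`. -/
def wN (N : ModuleCat.{u} R) : twR F ⋙ tau O N ≅ tau O N ⋙ twR F :=
  NatIso.ofComponents (fun M => Comonad.Coalgebra.isoMk
    (A := (twR F ⋙ tau O N).obj M) (B := (tau O N ⋙ twR F).obj M)
    (TensorProduct.rightComm R M.A W N).toModuleIso (by
      ext : 1
      refine LinearMap.ext fun z => ?_
      have h1 := coact_tau ((twR F).obj M) N z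
      have h2 : (ComodTens.Comod.tensor (toComod ((K945.sGO R O).coalg M N)) F).coact
          (TensorProduct.rightComm R M.A W N z) =
          (ComodTens.Comod.tensor (ComodTens.Comod.tensor (toComod M)
            (HopfRep.Comod.trivial (k := R) (A := O) N)) F).coact (TensorProduct.rightComm R M.A W N z) :=
        congrArg (fun c : HopfRep.Comod R O (M.A ⊗[R] N) => (ComodTens.Comod.tensor c F).coact
          (TensorProduct.rightComm R M.A W N z)) (K945.toComod_coalg M N)
      have h3 := tensor_rightComm (toComod M) F (HopfRep.Comod.trivial (k := R) (A := O) N) z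
      change (TensorProduct.rightComm R M.A W N).toLinearMap.rTensor O
        ((toComod ((K945.sGO R O).coalg ((twR F).obj M) N)).coact z) =
        (ComodTens.Comod.tensor (toComod ((K945.sGO R O).coalg M N)) F).coact
          (TensorProduct.rightComm R M.A W N z)
      rw [h2, h3]
      exact congrArg _ h1)) (fun {M M'} f => by
    ext : 2
    exact LinearMap.ext fun z => rightComm_nat f.f.hom z)

/-- 496's `gamma` for the twist. -/
def gammaTw (N : ModuleCat.{u} R) :
    (twR F ⋙ (UO R O).Cob) ⋙ (MonoidalCategory.tensorRight N).mapHomologicalComplex (ComplexShape.up ℤ) ≅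
      tau O N ⋙ (twR F ⋙ (UO R O).Cob) :=
  gammaW N (twR F) (wN F N)

end Groth.Agent.ResProp.EF.K679.TwR
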