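import Groth.Agent.ResProp.EF.K668.CoalgAb
import Mathlib.Algebra.Homology.HomologicalComplexLimits
import Mathlib.Algebra.Homology.Homotopy

/-!
# The cobar complex of a coalgebra over a comonad with unit (S16912, G6c, (6c2))

`G : Comonad C` additive, `Aug G` : a natural map `u : 𝟭 ⟶ G` which makes every object a trivial coalgebra
(`m ↦ m ⊗ 1` for `G = - ⊗ O`).  `cob U : G.Coalgebra ⥤ CochainComplex C ℤ`, `cob(M)^n = G^n M` for `n ≥ 0`,
`d 0 = ρ - u`, `d (n+1) = G (d n) + (-1)^(n+1) tail`, `tail = δ - u_G - G u` (the recursion of `Hoch.d`).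
-/

set_option autoImplicit false

universe v u v' u'

open CategoryTheory CategoryTheory.Limits

noncomputable section

namespace Groth.Agent.ResProp.EF.K679

variable {C : Type u} [Category.{v} C]

/-- a unit of a comonad: every object is a (trivial) coalgebra, naturally -/
structure Aug (G : Comonad C) where
  u : 𝟭 C ⟶ G.toFunctor
  u_ε : ∀ M : C, u.app M ≫ G.ε.app M = 𝟙 M
  u_δ : ∀ M : C, u.app M ≫ G.δ.app M = u.app M ≫ u.app (G.obj M)

namespace Cob

variable {G : Comonad C} (U : Aug G)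

/-- `m ↦ m ⊗ 1` -/
def un (M : C) : M ⟶ G.obj M := U.u.app M

lemma un_nat {M N : C} (f : M ⟶ N) : f ≫ un U N = un U M ≫ G.map f := U.u.naturality f

/-- the comultiplication -/
def dl (G : Comonad C) (M : C) : G.obj M ⟶ G.obj (G.obj M) := G.δ.app M

lemma dl_nat {M N : C} (f : M ⟶ N) : G.map f ≫ dl G N = dl G M ≫ G.map (G.map f) := G.δ.naturality f

lemma dl_dl (M : C) : dl G M ≫ G.map (dl G M) = dl G M ≫ dl G (G.obj M) := G.coassoc M

lemma un_dl (M : C) : un U M ≫ dl G M = un U M ≫ un U (G.obj M) := U.u_δ M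

/-- the counit -/
def ep (G : Comonad C) (M : C) : G.obj M ⟶ M := G.ε.app M

lemma ep_nat {M N : C} (f : M ⟶ N) : G.map f ≫ ep G N = ep G M ≫ f := G.ε.naturality f

lemma un_ep (M : C) : un U M ≫ ep G M = 𝟙 M := U.u_ε M

lemma dl_ep (M : C) : dl G M ≫ ep G (G.obj M) = 𝟙 _ := G.left_counit M

lemma dl_map_ep (M : C) : dl G M ≫ G.map (ep G M) = 𝟙 _ := G.right_counit M

variable [Preadditive C]

/-- the reduced comultiplication `m ⊗ a ↦ m ⊗ (Δ a - a ⊗ 1 - 1 ⊗ a)` -/
def tail (M : C) : G.obj M ⟶ G.obj (G.obj M) := dl G M - un U (G.obj M) - G.map (un U M)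

lemma tail_nat {M N : C} (f : M ⟶ N) : G.map f ≫ tail U N = tail U M ≫ G.map (G.map f) := by
  simp only [tail, Preadditive.comp_sub, Preadditive.sub_comp]
  rw [dl_nat, ← G.map_comp, un_nat U f, G.map_comp, un_nat U (G.map f)]

variable [G.toFunctor.Additive]

lemma tail_tail (M : C) : tail U M ≫ G.map (tail U M) = tail U M ≫ tail U (G.obj M) := by
  have h0 := dl_dl (G := G) M
  have h1 : un U (G.obj M) ≫ G.map (dl G M) = dl G M ≫ un U (G.obj (G.obj M)) :=
    (un_nat U (dl G M)).symm
  have h2 : un U (G.obj M) ≫ G.map (un U (G.obj M)) = un U (G.obj M) ≫ un U (G.obj (G.obj M)) :=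
    (un_nat U (un U (G.obj M))).symm
  have h3 : un U (G.obj M) ≫ G.map (G.map (un U M)) = G.map (un U M) ≫ un U (G.obj (G.obj M)) :=
    (un_nat U (G.map (un U M))).symm
  have h4 : G.map (un U M) ≫ G.map (dl G M) = G.map (un U M) ≫ G.map (un U (G.obj M)) := by
    rw [← G.map_comp, un_dl, G.map_comp]
  have h5 : G.map (un U M) ≫ dl G (G.obj M) = dl G M ≫ G.map (G.map (un U M)) := dl_nat (un U M)
  have h6 : un U (G.obj M) ≫ dl G (G.obj M) = un U (G.obj M) ≫ un U (G.obj (G.obj M)) := un_dl U (G.obj M)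
  have h7 : G.map (un U M) ≫ G.map (G.map (un U M)) = G.map (un U M) ≫ G.map (un U (G.obj M)) := by
    rw [← G.map_comp, ← G.map_comp, un_nat U (un U M)]
  simp only [tail, Preadditive.comp_sub, Preadditive.sub_comp, G.map_sub]
  rw [h0, h1, h2, h3, h4, h5, h6, h7]
  abel

/-- one step of the recursion -/
def step {P : C} (D : P ⟶ G.obj P) (c : ℤ) : G.obj P ⟶ G.obj (G.obj P) := G.map D + c • tail U P

omit [G.toFunctor.Additive] in
lemma step_nat {P Q : C} (D : P ⟶ G.obj P) (E : Q ⟶ G.obj Q) (f : P ⟶ Q) (c : ℤ)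
    (h : f ≫ E = D ≫ G.map f) : G.map f ≫ step U E c = step U D c ≫ G.map (G.map f) := by
  simp only [step, Preadditive.comp_add, Preadditive.add_comp, Preadditive.comp_zsmul, Preadditive.zsmul_comp]
  rw [← G.map_comp, h, G.map_comp, tail_nat]

lemma step_step {P : C} (D : P ⟶ G.obj P) (c : ℤ) (hc : c * c = 1) (h : D ≫ step U D c = 0) :
    step U D c ≫ step U (step U D c) (-c) = 0 := by
  have hnat : G.map D ≫ tail U (G.obj P) = tail U P ≫ G.map (G.map D) := tail_nat U D
  have htt : tail U P ≫ G.map (tail U P) = tail U P ≫ tail U (G.obj P) := tail_tail U P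
  have hG : G.map D ≫ G.map (G.map D) = -(c • (G.map D ≫ G.map (tail U P))) := by
    have h1 := congrArg (fun f => G.map f) h
    simp only [step, Preadditive.comp_add, Preadditive.comp_zsmul, G.map_add, G.map_zsmul, G.map_comp,
      G.map_zero] at h1
    exact eq_neg_of_add_eq_zero_left h1
  simp only [step, G.map_add, G.map_zsmul, Preadditive.add_comp, Preadditive.comp_add, Preadditive.comp_zsmul,
    Preadditive.zsmul_comp, hG, hnat, htt]
  rcases Int.isUnit_iff.1 (IsUnit.of_mul_eq_one c hc) with rfl | rfl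
  · simp only [one_smul, neg_smul]
    abel
  · simp only [one_smul, neg_smul, neg_neg, smul_add, smul_neg]
    abel

/-- the terms `G^n M` -/
def X (G : Comonad C) (M : C) : ℕ → C
  | 0 => M
  | n + 1 => G.obj (X G M n)

/-- functoriality of the terms -/
def Xmap (G : Comonad C) {M N : C} (f : M ⟶ N) : ∀ n, X G M n ⟶ X G N n
  | 0 => f
  | n + 1 => G.map (Xmap G f n)

/-- the differential, from the zeroth one -/
def dd {M : C} (e : M ⟶ G.obj M) : ∀ n, X G M n ⟶ X G M (n + 1)
  | 0 => e
  | n + 1 => step U (P := X G M n) (dd e n) ((-1 : ℤ) ^ (n + 1))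

lemma dd_dd {M : C} (e : M ⟶ G.obj M) (he : e ≫ G.map e = e ≫ tail U M) :
    ∀ n, dd U e n ≫ dd U e (n + 1) = 0
  | 0 => by
    change e ≫ (G.map e + (-1 : ℤ) ^ (0 + 1) • tail U M) = 0
    rw [Preadditive.comp_add, Preadditive.comp_zsmul, he]
    simp
  | n + 1 => by
    have h := step_step U (P := X G M n) (dd U e n) ((-1 : ℤ) ^ (n + 1)) (by rw [← mul_pow]; simp)
      (dd_dd e he n)
    rw [show -(-1 : ℤ) ^ (n + 1) = (-1) ^ (n + 1 + 1) by rw [pow_succ (-1 : ℤ) (n + 1)]; ring] at h
    exact h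

omit [G.toFunctor.Additive] in
lemma dd_nat {M N : C} (e : M ⟶ G.obj M) (e' : N ⟶ G.obj N) (f : M ⟶ N) (h : f ≫ e' = e ≫ G.map f) :
    ∀ n, Xmap G f n ≫ dd U e' n = dd U e n ≫ Xmap G f (n + 1)
  | 0 => h
  | n + 1 => step_nat U (P := X G M n) (Q := X G N n) (dd U e n) (dd U e' n) (Xmap G f n) _
      (dd_nat e e' f h n)

omit [Preadditive C] [G.toFunctor.Additive] in
lemma Xmap_id (M : C) : ∀ n, Xmap G (𝟙 M) n = 𝟙 (X G M n)
  | 0 => rfl
  | n + 1 => by
    change G.map (Xmap G (𝟙 M) n) = 𝟙 (G.obj (X G M n))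
    rw [Xmap_id M n, G.map_id]

omit [Preadditive C] [G.toFunctor.Additive] in
lemma Xmap_comp {M N P : C} (f : M ⟶ N) (g : N ⟶ P) : ∀ n, Xmap G (f ≫ g) n = Xmap G f n ≫ Xmap G g n
  | 0 => rfl
  | n + 1 => by
    change G.map (Xmap G (f ≫ g) n) = G.map (Xmap G f n) ≫ G.map (Xmap G g n)
    rw [Xmap_comp f g n, G.map_comp]

lemma Xmap_add {M N : C} (f g : M ⟶ N) : ∀ n, Xmap G (f + g) n = Xmap G f n + Xmap G g n
  | 0 => rfl
  | n + 1 => by
    change G.map (Xmap G (f + g) n) = G.map (Xmap G f n) + G.map (Xmap G g n)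
    rw [Xmap_add f g n, G.map_add]

/-- the iterates of `G` -/
@[simps] def it (G : Comonad C) (n : ℕ) : C ⥤ C where
  obj M := X G M n
  map f := Xmap G f n
  map_id M := Xmap_id M n
  map_comp f g := Xmap_comp f g n

omit [Preadditive C] [G.toFunctor.Additive] in
lemma it_zero : it G 0 = 𝟭 C := rfl

omit [Preadditive C] [G.toFunctor.Additive] in
lemma it_succ (n : ℕ) : it G (n + 1) = it G n ⋙ G.toFunctor := rfl

instance additive_it (n : ℕ) : (it G n).Additive where
  map_add {_ _ f g} := Xmap_add f g n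

omit [Preadditive C] [G.toFunctor.Additive] in
lemma preservesLimits_it {J : Type*} [Category J] [PreservesLimitsOfShape J G.toFunctor] :
    ∀ n, PreservesLimitsOfShape J (it G n)
  | 0 => by rw [it_zero]; infer_instance
  | n + 1 => by
    rw [it_succ]
    have := preservesLimits_it (J := J) n
    infer_instance

omit [Preadditive C] [G.toFunctor.Additive] in
lemma preservesColimits_it {J : Type*} [Category J] [PreservesColimitsOfShape J G.toFunctor] :
    ∀ n, PreservesColimitsOfShape J (it G n)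
  | 0 => by rw [it_zero]; infer_instance
  | n + 1 => by
    rw [it_succ]
    have := preservesColimits_it (J := J) n
    infer_instance

/-- the zeroth differential `ρ - (· ⊗ 1)` -/
def d0 (M : G.Coalgebra) : M.A ⟶ G.obj M.A := M.a - un U M.A

omit [G.toFunctor.Additive] in
lemma d0_nat {M N : G.Coalgebra} (f : M ⟶ N) : f.f ≫ d0 U N = d0 U M ≫ G.map f.f := by
  simp only [d0, Preadditive.comp_sub, Preadditive.sub_comp]
  rw [un_nat, f.h]

lemma d0_rel (M : G.Coalgebra) : d0 U M ≫ G.map (d0 U M) = d0 U M ≫ tail U M.A := by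
  have h1 : M.a ≫ dl G M.A = M.a ≫ G.map M.a := M.coassoc
  have h2 : un U M.A ≫ G.map M.a = M.a ≫ un U (G.obj M.A) := (un_nat U M.a).symm
  have h3 : un U M.A ≫ dl G M.A = un U M.A ≫ un U (G.obj M.A) := un_dl U M.A
  simp only [d0, tail, Preadditive.comp_sub, Preadditive.sub_comp, G.map_sub]
  rw [h1, h2, h3]
  abel

section Cplx

variable [HasZeroObject C]

open ZeroObject

/-- the terms, with integer index -/
def Xz (G : Comonad C) (M : C) : ℤ → C
  | Int.ofNat n => X G M n
  | Int.negSucc _ => 0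

/-- the differentials, with integer index -/
def dz (M : G.Coalgebra) : ∀ n : ℤ, Xz G M.A n ⟶ Xz G M.A (n + 1)
  | Int.ofNat n => dd U (d0 U M) n
  | Int.negSucc _ => 0

lemma dz_dz (M : G.Coalgebra) : ∀ n : ℤ, dz U M n ≫ dz U M (n + 1) = 0
  | Int.ofNat n => dd_dd U (d0 U M) (d0_rel U M) n
  | Int.negSucc _ => zero_comp

/-- functoriality -/
def Xzmap (G : Comonad C) {M N : C} (f : M ⟶ N) : ∀ n : ℤ, Xz G M n ⟶ Xz G N n
  | Int.ofNat n => Xmap G f n
  | Int.negSucc _ => 𝟙 _

omit [G.toFunctor.Additive] in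
lemma dz_nat {M N : G.Coalgebra} (f : M ⟶ N) : ∀ n : ℤ, Xzmap G f.f n ≫ dz U N n = dz U M n ≫ Xzmap G f.f (n + 1)
  | Int.ofNat n => dd_nat U (d0 U M) (d0 U N) f.f (d0_nat U f) n
  | Int.negSucc _ => (isZero_zero C).eq_of_src _ _

end Cplx

end Cob

section Functor

variable [Preadditive C] [HasZeroObject C] {G : Comonad C} (U : Aug G) [G.toFunctor.Additive]

open Cob ZeroObject

/-- the cobar complex -/
abbrev cobObj (M : G.Coalgebra) : CochainComplex C ℤ := CochainComplex.of (Xz G M.A) (dz U M) (dz_dz U M)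

lemma cobObj_d (M : G.Coalgebra) (n : ℤ) : (cobObj U M).d n (n + 1) = dz U M n := CochainComplex.of_d _ _ _

/-- **the cobar complex functor** -/
@[simps obj] def cob : G.Coalgebra ⥤ CochainComplex C ℤ where
  obj M := cobObj U M
  map {M N} f := CochainComplex.ofHom (fun n => Xzmap G f.f n) (fun n => by
    rw [cobObj_d, cobObj_d]
    exact dz_nat U f n)
  map_id M := by
    ext n
    rcases n with n | n
    · exact Xmap_id M.A n
    · rfl
  map_comp {M N P} f g := by
    ext n
    rcases n with n | n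
    · exact Xmap_comp f.f g.f n
    · exact (isZero_zero C).eq_of_src _ _

lemma cob_map_f {M N : G.Coalgebra} (f : M ⟶ N) (n : ℤ) : ((cob U).map f).f n = Xzmap G f.f n := rfl

lemma isZero_cob (M : G.Coalgebra) (n : ℤ) (hn : n < 0) : IsZero (((cob U).obj M).X n) := by
  rcases n with n | n
  · exact absurd hn (by simp)
  · exact isZero_zero C

instance : (cob U).Additive where
  map_add {M N f g} := by
    ext n
    rcases n with n | n
    · exact Xmap_add f.f g.f n
    · exact (isZero_zero C).eq_of_src _ _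

/-- the terms of the cobar complex -/
def cobEval (n : ℕ) : cob U ⋙ HomologicalComplex.eval C _ (Int.ofNat n) ≅ G.forget ⋙ it G n :=
  NatIso.ofComponents (fun _ => Iso.refl _) (fun f => by
    change Xmap G f.f n ≫ 𝟙 _ = 𝟙 _ ≫ Xmap G f.f n
    rw [Category.comp_id, Category.id_comp])

lemma cobEval_neg (n : ℕ) : IsZero (cob U ⋙ HomologicalComplex.eval C (ComplexShape.up ℤ) (Int.negSucc n)) :=
  Functor.isZero _ fun _ => isZero_zero C

lemma preservesLimits_cob {J : Type*} [Category J] [HasLimitsOfShape J C] [PreservesLimitsOfShape J G.toFunctor] :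
    PreservesLimitsOfShape J (cob U) :=
  HomologicalComplex.preservesLimitsOfShape_of_eval _ fun n => by
    rcases n with n | n
    · have := preservesLimits_it (G := G) (J := J) n
      exact preservesLimitsOfShape_of_natIso (cobEval U n).symm
    · exact Functor.preservesLimitsOfShape_of_isZero _ (cobEval_neg U n) _

lemma preservesColimits_cob {J : Type*} [Category J] [HasColimitsOfShape J C]
    [PreservesColimitsOfShape J G.toFunctor] : PreservesColimitsOfShape J (cob U) :=
  HomologicalComplex.preservesColimitsOfShape_of_eval _ fun n => by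
    rcases n with n | n
    · have := preservesColimits_it (G := G) (J := J) n
      exact preservesColimitsOfShape_of_natIso (cobEval U n).symm
    · exact Functor.preservesColimitsOfShape_of_isZero _ (cobEval_neg U n) _

instance [HasFiniteLimits C] [PreservesFiniteLimits G.toFunctor] : PreservesFiniteLimits (cob U) where
  preservesFiniteLimits _ _ _ := preservesLimits_cob U

instance [HasFiniteColimits C] [PreservesFiniteColimits G.toFunctor] : PreservesFiniteColimits (cob U) where
  preservesFiniteColimits _ _ _ := preservesColimits_cob U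

end Functor

end Groth.Agent.ResProp.EF.K679
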