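import Groth.Agent.ResProp.EF.K140.UE
import Groth.Agent.ResProp.EF.K679.TwBC
import Groth.Agent.ResProp.EF.K5.TwLev

/-!
# Evaluation on the chart commutes with twists (S16912, G6c, (I8), helper679)

`T : (GO s O).Coalgebra ⥤ (GO s O).Coalgebra` a twist by `F` (any text: the hypotheses are the underlying functor and the
formula for the coaction on the chart) ==> `theta : T ⋙ uE ≅ uE ⋙ twR (bcF R F)`.
-/

set_option autoImplicit false
set_option linter.dupNamespace false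

universe u

open CategoryTheory CategoryTheory.Limits Opposite TensorProduct

noncomputable section

namespace Groth.Agent.ResProp.EF.K679.Theta

open EF56 K742 K741.RP K140
open Groth.Agent.ResProp.EF.K679.Tw Groth.Agent.ResProp.EF.K679.TwR Groth.Agent.ResProp.EF.K679.TwBC

section Lin

variable {k : Type u} [CommRing k] {R : Type u} [CommRing R] [Algebra k R] {O : Type u} [CommRing O] [Bialgebra k O]
variable {κ : k →+* R} (hκ : ∀ c : k, κ c = algebraMap k R c)
variable {X : Type u} [AddCommGroup X] [Module R X] {W : Type u} [AddCommGroup W] [Module k W]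

/-- `w ⊗ b ↦ (1 ⊗ w) ⊗ (1 ⊗ b)` -/
def bcW (R : Type u) [CommRing R] [Algebra k R] (z : W ⊗[k] O) : (R ⊗[k] W) ⊗[R] (R ⊗[k] O) :=
  AlgebraTensorModule.tensorTensorTensorComm k R k R R R W O (((1 : R) ⊗ₜ[R] (1 : R)) ⊗ₜ[k] z)

lemma bcW_zero : bcW (k := k) (W := W) (O := O) R 0 = 0 := by rw [bcW, TensorProduct.tmul_zero, map_zero]

lemma bcW_add (z z' : W ⊗[k] O) : bcW R (z + z') = bcW R z + bcW R z' := by
  rw [bcW, TensorProduct.tmul_add, map_add]; rfl

@[simp] lemma bcW_tmul (w : W) (b : O) : bcW R (w ⊗ₜ[k] b) = ((1 : R) ⊗ₜ[k] w) ⊗ₜ[R] ((1 : R) ⊗ₜ[k] b) := rfl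

lemma bcF_coact (F : HopfRep.Comod k O W) (w : W) : (bcF R F).coact ((1 : R) ⊗ₜ[k] w) = bcW R (F.coact w) := rfl

/-- the diagonal coaction over `k` and over `R` -/
theorem core (y : TM κ X O) (z : W ⊗[k] O) :
    (tb W hκ X).toLinearMap.rTensor (R ⊗[k] O) (tb O hκ (TM κ X W) (K5.bbL κ y z)) =
      bb (tb O hκ X y ⊗ₜ[R] bcW R z) := by
  induction y using TM.induction with
  | zero => rw [K5.bbL_zero_left, map_zero, map_zero, map_zero, TensorProduct.zero_tmul, map_zero]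
  | add x y hx hy => rw [K5.bbL_add_left, map_add, map_add, map_add, TensorProduct.add_tmul, map_add, hx, hy]
  | tm m a =>
    induction z using TensorProduct.induction_on with
    | zero => rw [K5.bbL_zero_right, map_zero, map_zero, bcW_zero, TensorProduct.tmul_zero, map_zero]
    | add x y hx hy => rw [K5.bbL_add_right, map_add, map_add, bcW_add, TensorProduct.tmul_add, map_add, hx, hy]
    | tmul w b =>
      rw [K5.bbL_tm, tb_tm, tb_tm, bcW_tmul, LinearMap.rTensor_tmul, bb_tmul, Algebra.TensorProduct.tmul_mul_tmul,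
        one_mul]
      exact congrArg (fun t => t ⊗ₜ[R] ((1 : R) ⊗ₜ[k] (a * b))) (tb_tm W hκ X m w)

end Lin

section Cat

variable {k : Type u} [CommRing k] {A : NFᵒᵖ ⥤ CommRingCat.{u}} (s : K742.KS k A)
variable [Algebra k (A.obj (op (⟨0⟩ : NF)))]
  (hs : ∀ c : k, s.κ (op ⟨0⟩) c = algebraMap k (A.obj (op (⟨0⟩ : NF))) c)
variable {O : Type u} [CommRing O] [Bialgebra k O] {W : Type u} [AddCommGroup W] [Module k W]
  (F : HopfRep.Comod k O W)

/-- the formula for the coaction of a twist, on the chart -/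
def IsTw (F : HopfRep.Comod k O W) (M N : (GO s O).Coalgebra) (i : N.A ≅ (tensC s W).obj M.A) : Prop :=
  ∀ (x : (vst A).obj M.A) (w : W),
    ((vst A).map (i.inv ≫ N.a ≫ (GO s O).map i.hom)).hom (TM.tm (s.κ (op ⟨0⟩)) x w) =
      K5.bbL (s.κ (op ⟨0⟩)) (((vst A).map M.a).hom x) (F.coact w)

theorem hom_eq_tm (M N : (GO s O).Coalgebra) (i : N.A ≅ (tensC s W).obj M.A) (h : IsTw s F M N i)
    (x : (vst A).obj M.A) (w : W) :
    (tb W hs ((vst A).obj M.A)).toLinearMap.rTensor ((A.obj (op (⟨0⟩ : NF))) ⊗[k] O)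
      (tb O hs ((vst A).obj ((tensC s W).obj M.A))
        (((vst A).map (i.inv ≫ N.a ≫ (GO s O).map i.hom)).hom (TM.tm (s.κ (op ⟨0⟩)) x w))) =
      (ComodTens.Comod.tensor (K496.toComod ((uE s hs O).obj M)) (bcF (A.obj (op (⟨0⟩ : NF))) F)).coact
        (x ⊗ₜ[(A.obj (op (⟨0⟩ : NF)))] ((1 : (A.obj (op (⟨0⟩ : NF)))) ⊗ₜ[k] w)) := by
  rw [h x w]
  refine (core hs (((vst A).map M.a).hom x) (F.coact w)).trans ?_
  rw [tensor_coact, toComod_uE, bcF_coact]
  rfl

theorem hom_eq (M N : (GO s O).Coalgebra) (i : N.A ≅ (tensC s W).obj M.A) (h : IsTw s F M N i)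
    (z : (vst A).obj ((tensC s W).obj M.A)) :
    (tb W hs ((vst A).obj M.A)).toLinearMap.rTensor ((A.obj (op (⟨0⟩ : NF))) ⊗[k] O)
      (tb O hs ((vst A).obj ((tensC s W).obj M.A))
        (((vst A).map (i.inv ≫ N.a ≫ (GO s O).map i.hom)).hom z)) =
      (ComodTens.Comod.tensor (K496.toComod ((uE s hs O).obj M)) (bcF (A.obj (op (⟨0⟩ : NF))) F)).coact
        (tb W hs ((vst A).obj M.A) z) := by
  let f : TM (s.κ (op ⟨0⟩)) ((vst A).obj M.A) W →ₗ[(A.obj (op (⟨0⟩ : NF)))] _ :=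
    (tb W hs ((vst A).obj M.A)).toLinearMap.rTensor ((A.obj (op (⟨0⟩ : NF))) ⊗[k] O) ∘ₗ
      (tb O hs ((vst A).obj ((tensC s W).obj M.A))).toLinearMap ∘ₗ
        ((vst A).map (i.inv ≫ N.a ≫ (GO s O).map i.hom)).hom
  let g : TM (s.κ (op ⟨0⟩)) ((vst A).obj M.A) W →ₗ[(A.obj (op (⟨0⟩ : NF)))] _ :=
    (ComodTens.Comod.tensor (K496.toComod ((uE s hs O).obj M)) (bcF (A.obj (op (⟨0⟩ : NF))) F)).coact ∘ₗ
      (tb W hs ((vst A).obj M.A)).toLinearMap
  have hfg : f = g := TM.linearMap_ext _ fun x w => by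
    refine (hom_eq_tm s hs F M N i h x w).trans ?_
    exact congrArg (ComodTens.Comod.tensor (K496.toComod ((uE s hs O).obj M))
      (bcF (A.obj (op (⟨0⟩ : NF))) F)).coact (tb_tm W hs ((vst A).obj M.A) x w).symm
  exact LinearMap.congr_fun hfg z

/-- `uE (tw M) ≅ twR (bcF F) (uE M)` for one object -/
def thetaObj (M N : (GO s O).Coalgebra) (i : N.A ≅ (tensC s W).obj M.A) (h : IsTw s F M N i) :
    (uE s hs O).obj N ≅ (twR (bcF (A.obj (op (⟨0⟩ : NF))) F)).obj ((uE s hs O).obj M) :=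
  Comonad.Coalgebra.isoMk ((vst A).mapIso i ≪≫ tbIso s hs W M.A) (by
    have e1 : (vst A).map N.a ≫ (vst A).map ((GO s O).map i.hom) =
        (vst A).map i.hom ≫ (vst A).map (i.inv ≫ N.a ≫ (GO s O).map i.hom) := by
      rw [← Functor.map_comp, ← Functor.map_comp, Iso.hom_inv_id_assoc]
    have e2 := (ueHom s hs O).nat i.hom
    change ((vst A).map N.a ≫ ((ueHom s hs O).iso N.A).hom) ≫
      (K496.GO _ _).map ((vst A).map i.hom ≫ (tbIso s hs W M.A).hom) =
      ((vst A).map i.hom ≫ (tbIso s hs W M.A).hom) ≫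
        ((twR (bcF (A.obj (op (⟨0⟩ : NF))) F)).obj ((uE s hs O).obj M)).a
    rw [(K496.GO _ _).toFunctor.map_comp, Category.assoc, ← Category.assoc ((ueHom s hs O).iso N.A).hom, ← e2,
      Category.assoc, ← Category.assoc ((vst A).map N.a), e1, Category.assoc, Category.assoc]
    congr 1
    ext z
    exact hom_eq s hs F M N i h z)

theorem tbIso_nat {M M' : Comod A} (f : M ⟶ M') :
    (vst A).map ((tensC s W).map f) ≫ (tbIso s hs W M').hom =
      (tbIso s hs W M).hom ≫ (tR ((A.obj (op (⟨0⟩ : NF))) ⊗[k] W)).map ((vst A).map f) := by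
  ext z
  exact tb_nat W hs ((vst A).map f).hom z

theorem aux_nat {P P' M M' : Comod A} (t : P ⟶ P') (a : P ⟶ (tensC s W).obj M) (a' : P' ⟶ (tensC s W).obj M')
    (f : M ⟶ M') (h : t ≫ a' = a ≫ (tensC s W).map f) :
    (vst A).map t ≫ (vst A).map a' ≫ (tbIso s hs W M').hom =
      ((vst A).map a ≫ (tbIso s hs W M).hom) ≫ (tR ((A.obj (op (⟨0⟩ : NF))) ⊗[k] W)).map ((vst A).map f) := by
  rw [← Category.assoc, ← Functor.map_comp, h, Functor.map_comp, Category.assoc, tbIso_nat, Category.assoc]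
  rfl

/-- **`uE` carries a twist by `F` to the twist by the base change of `F`.** -/
def theta (T : (GO s O).Coalgebra ⥤ (GO s O).Coalgebra) (e : T ⋙ (GO s O).forget ≅ (GO s O).forget ⋙ tensC s W)
    (hT : ∀ M, IsTw s F M (T.obj M) (e.app M)) :
    T ⋙ uE s hs O ≅ uE s hs O ⋙ twR (bcF (A.obj (op (⟨0⟩ : NF))) F) :=
  NatIso.ofComponents (fun M => thetaObj s hs F M (T.obj M) (e.app M) (hT M)) (fun {M M'} f => by
    apply (K496.GO _ _).forget.map_injective
    exact aux_nat s hs (T.map f).f (e.hom.app M) (e.hom.app M') f.f (e.hom.naturality f))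

end Cat

end Groth.Agent.ResProp.EF.K679.Theta
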