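import Groth.Agent.ResProp.EF.K496.CobMod
import Groth.Agent.ResProp.EF.K679.TwMod

/-!
# Twists of comodules over a bialgebra by a comodule (S16912, G6c, [TW], helper679)

`R` a ring, `O` a commutative `R`-bialgebra, `(GO R O).Coalgebra` = 496's category of comodules.
* `twR F : (GO R O).Coalgebra ⥤ (GO R O).Coalgebra`, `M ↦ M ⊗[R] W` with `ComodTens.Comod.tensor (toComod M) F`, for
  `F : HopfRep.Comod R O W`; additive, exact for `W` flat.
* `twRMap F F' f hf : twR F ⟶ twR F'`.
* `shearR F` : `twR (regular) M ≅ cofree M` for a Hopf algebra.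
-/

set_option autoImplicit false

universe u

open CategoryTheory CategoryTheory.Limits TensorProduct

noncomputable section

namespace Groth.Agent.ResProp.EF.K679.TwR

open Groth.Agent.ResProp.EF.K496 Groth.Agent.ResProp.EF.K679.Tw

variable {R : Type u} [CommRing R] {O : Type u} [CommRing O] [Bialgebra R O]

section Def

variable {W : Type u} [AddCommGroup W] [Module R W] (F : HopfRep.Comod R O W)
  {W' : Type u} [AddCommGroup W'] [Module R W'] (F' : HopfRep.Comod R O W')
  {W'' : Type u} [AddCommGroup W''] [Module R W''] (F'' : HopfRep.Comod R O W'')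

lemma isComodHom_apply {M N : (GO R O).Coalgebra} (f : M ⟶ N) (v : M.A) :
    (toComod N).coact (f.f.hom v) = f.f.hom.rTensor O ((toComod M).coact v) :=
  LinearMap.congr_fun (isComodHom f) v

/-- The twist by `F`. -/
def twR : (GO R O).Coalgebra ⥤ (GO R O).Coalgebra where
  obj M := mkCoalg (M.A ⊗[R] W) (ComodTens.Comod.tensor (toComod M) F)
  map {M N} f := mkHom (ComodTens.Comod.tensor (toComod M) F) (ComodTens.Comod.tensor (toComod N) F)
    (f.f.hom.rTensor W) (LinearMap.ext fun z => by
      refine (tensor_nat (toComod M) (toComod N) F F f.f.hom LinearMap.id (isComodHom_apply f) (fun w => ?_) z)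
      rw [LinearMap.rTensor_id]
      rfl)
  map_id M := by
    ext : 2
    exact LinearMap.rTensor_id W M.A
  map_comp f g := by
    ext : 2
    exact LinearMap.rTensor_comp W g.f.hom f.f.hom

@[simp] lemma twR_obj_A (M : (GO R O).Coalgebra) : ((twR F).obj M).A = ModuleCat.of R (M.A ⊗[R] W) := rfl

lemma toComod_twR (M : (GO R O).Coalgebra) :
    toComod ((twR F).obj M) = ComodTens.Comod.tensor (toComod M) F := rfl

lemma twR_map_hom {M N : (GO R O).Coalgebra} (f : M ⟶ N) : ((twR F).map f).f.hom = f.f.hom.rTensor W := rfl

/-- functoriality in the comodule -/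
def twRMap (g : W →ₗ[R] W') (hg : ∀ w, F'.coact (g w) = g.rTensor O (F.coact w)) : twR F ⟶ twR F' where
  app M := mkHom (ComodTens.Comod.tensor (toComod M) F) (ComodTens.Comod.tensor (toComod M) F')
    (g.lTensor M.A) (LinearMap.ext fun z => by
      refine (tensor_nat (toComod M) (toComod M) F F' LinearMap.id g (fun v => ?_) hg z)
      rw [LinearMap.rTensor_id]
      rfl)
  naturality M N f := by
    ext : 2
    apply LinearMap.ext
    intro z
    have h1 : g.lTensor N.A ∘ₗ f.f.hom.rTensor W = TensorProduct.map f.f.hom g :=
      LinearMap.lTensor_comp_rTensor _ _ _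
    have h2 : f.f.hom.rTensor W' ∘ₗ g.lTensor M.A = TensorProduct.map f.f.hom g :=
      LinearMap.rTensor_comp_lTensor _ _ _
    exact LinearMap.congr_fun (h1.trans h2.symm) z

lemma twRMap_app_hom (g : W →ₗ[R] W') (hg : ∀ w, F'.coact (g w) = g.rTensor O (F.coact w))
    (M : (GO R O).Coalgebra) : ((twRMap F F' g hg).app M).f.hom = g.lTensor M.A := rfl

lemma twRMap_id : twRMap F F LinearMap.id (fun w => by rw [LinearMap.rTensor_id]; rfl) = 𝟙 (twR F) := by
  ext M : 4
  exact LinearMap.lTensor_id M.A W

lemma twRMap_comp (g : W →ₗ[R] W') (hg : ∀ w, F'.coact (g w) = g.rTensor O (F.coact w))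
    (g' : W' →ₗ[R] W'') (hg' : ∀ w, F''.coact (g' w) = g'.rTensor O (F'.coact w)) :
    twRMap F F' g hg ≫ twRMap F' F'' g' hg' = twRMap F F'' (g' ∘ₗ g) (fun w => by
      rw [LinearMap.comp_apply, hg', hg, LinearMap.rTensor_comp, LinearMap.comp_apply]) := by
  ext M : 4
  exact (LinearMap.lTensor_comp M.A g' g).symm

instance additive_twR : (twR F).Additive where
  map_add {M N f g} := by
    ext : 2
    exact LinearMap.rTensor_add W f.f.hom g.f.hom

/-- the underlying functor of `twR F` is `- ⊗ W` -/
def tR (W : Type u) [AddCommGroup W] [Module R W] : ModuleCat.{u} R ⥤ ModuleCat.{u} R where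
  obj M := ModuleCat.of R (M ⊗[R] W)
  map f := ModuleCat.ofHom (f.hom.rTensor W)
  map_id M := by
    ext : 1
    exact LinearMap.rTensor_id W M
  map_comp f g := by
    ext : 1
    exact LinearMap.rTensor_comp W g.hom f.hom

/-- `forget (twR F M) = (forget M) ⊗ W` -/
def twRForget : twR F ⋙ (GO R O).forget ≅ (GO R O).forget ⋙ tR W := Iso.refl _

end Def

/-! ### Exactness and colimits -/

section Exact

variable (W : Type u) [AddCommGroup W] [Module R W]

/-- `tR W` is the tensor product of `ModuleCat R`. -/
def tRIso : tR (R := R) W ≅ MonoidalCategory.tensorRight (ModuleCat.of R W) :=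
  NatIso.ofComponents (fun M => Iso.refl _) (fun {M N} f => by
    change (tR W).map f ≫ 𝟙 _ = 𝟙 _ ≫ (tR W).map f
    rw [Category.comp_id, Category.id_comp])

instance colim_tR {J : Type u} [Category.{u} J] : PreservesColimitsOfShape J (tR (R := R) W) :=
  preservesColimitsOfShape_of_natIso (tRIso W).symm

instance colimSize_tR : PreservesColimitsOfSize.{0, 0} (tR (R := R) W) :=
  preservesColimits_of_natIso (tRIso W).symm

instance finColim_tR : PreservesFiniteColimits (tR (R := R) W) where
  preservesFiniteColimits _ _ _ := inferInstance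

instance additive_tR : (tR (R := R) W).Additive where
  map_add {M N f g} := by
    ext : 1
    exact LinearMap.rTensor_add W f.hom g.hom

lemma shortExact_tR [Module.Flat R W] (S : ShortComplex (ModuleCat.{u} R)) (hS : S.ShortExact) :
    (S.map (tR W)).ShortExact := by
  have h1 := (ModuleCat.mono_iff_injective S.f).1 hS.mono_f
  have h2 := (ModuleCat.epi_iff_surjective S.g).1 hS.epi_g
  have h3 := (ShortComplex.ShortExact.moduleCat_exact_iff_function_exact _).1 hS.exact
  have hm : Mono (S.map (tR W)).f := (ModuleCat.mono_iff_injective _).2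
    (Module.Flat.rTensor_preserves_injective_linearMap _ h1)
  have he : Epi (S.map (tR W)).g := (ModuleCat.epi_iff_surjective _).2
    (LinearMap.rTensor_surjective W h2)
  exact ⟨(ShortComplex.ShortExact.moduleCat_exact_iff_function_exact _).2 (rTensor_exact W h3 h2)⟩

instance finLim_tR [Module.Flat R W] : PreservesFiniteLimits (tR (R := R) W) := by
  have h := (Functor.exact_tfae (tR (R := R) W)).out 0 3
  exact (h.mp (shortExact_tR W)).1

variable {W} (F : HopfRep.Comod R O W)

instance colim_twR {J : Type u} [Category.{u} J] : PreservesColimitsOfShape J (twR F) := by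
  have : PreservesColimitsOfShape J (twR F ⋙ (GO R O).forget) :=
    inferInstanceAs (PreservesColimitsOfShape J ((GO R O).forget ⋙ tR W))
  exact preservesColimitsOfShape_of_reflects_of_preserves _ (GO R O).forget

instance finColim_twR : PreservesFiniteColimits (twR F) where
  preservesFiniteColimits J _ _ := by
    have : PreservesColimitsOfShape J (twR F ⋙ (GO R O).forget) :=
      inferInstanceAs (PreservesColimitsOfShape J ((GO R O).forget ⋙ tR W))
    exact preservesColimitsOfShape_of_reflects_of_preserves _ (GO R O).forget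

instance finLim_twR [Module.Flat R O] [Module.Flat R W] : PreservesFiniteLimits (twR F) where
  preservesFiniteLimits J _ _ := by
    have : PreservesLimitsOfShape J (twR F ⋙ (GO R O).forget) :=
      inferInstanceAs (PreservesLimitsOfShape J ((GO R O).forget ⋙ tR W))
    exact preservesLimitsOfShape_of_reflects_of_preserves _ (GO R O).forget

/-- `H^i(K ⊗ F) = H^i(K) ⊗ F` as comodules. -/
def homologyTw [Module.Flat R O] [Module.Flat R W] (K : CochainComplex (GO R O).Coalgebra ℤ) (i : ℤ) :
    (((twR F).mapHomologicalComplex (ComplexShape.up ℤ)).obj K).homology i ≅ (twR F).obj (K.homology i) :=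
  (K.sc i).mapHomologyIso (twR F)

end Exact

/-! ### Twists commute -/

section Comm

lemma rightComm_bb {V W W' : Type u} [AddCommGroup V] [Module R V] [AddCommGroup W] [Module R W]
    [AddCommGroup W'] [Module R W'] (z : V ⊗[R] O) (w : W ⊗[R] O) (w' : W' ⊗[R] O) :
    (TensorProduct.rightComm R V W W').toLinearMap.rTensor O (bb (bb (z ⊗ₜ[R] w) ⊗ₜ[R] w')) =
      bb (bb (z ⊗ₜ[R] w') ⊗ₜ[R] w) := by
  induction z using TensorProduct.induction_on with
  | zero => simp only [map_zero, TensorProduct.zero_tmul]
  | add x y hx hy => simp only [map_add, TensorProduct.add_tmul, hx, hy]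
  | tmul v a =>
    induction w using TensorProduct.induction_on with
    | zero => simp only [map_zero, TensorProduct.zero_tmul, TensorProduct.tmul_zero]
    | add x y hx hy => simp only [map_add, TensorProduct.add_tmul, TensorProduct.tmul_add, hx, hy]
    | tmul m b =>
      induction w' using TensorProduct.induction_on with
      | zero => simp only [map_zero, TensorProduct.zero_tmul, TensorProduct.tmul_zero]
      | add x y hx hy => simp only [map_add, TensorProduct.add_tmul, TensorProduct.tmul_add, hx, hy]
      | tmul m' b' =>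
        simp only [bb_tmul, LinearMap.rTensor_tmul]
        change ((v ⊗ₜ[R] m') ⊗ₜ[R] m) ⊗ₜ[R] (a * b * b') = _
        rw [mul_right_comm]

theorem tensor_rightComm {V W W' : Type u} [AddCommGroup V] [Module R V] [AddCommGroup W] [Module R W]
    [AddCommGroup W'] [Module R W'] (c : HopfRep.Comod R O V) (F : HopfRep.Comod R O W)
    (F' : HopfRep.Comod R O W') (z : (V ⊗[R] W) ⊗[R] W') :
    (ComodTens.Comod.tensor (ComodTens.Comod.tensor c F') F).coact (TensorProduct.rightComm R V W W' z) =
      (TensorProduct.rightComm R V W W').toLinearMap.rTensor O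
        ((ComodTens.Comod.tensor (ComodTens.Comod.tensor c F) F').coact z) := by
  induction z using TensorProduct.induction_on with
  | zero => simp only [map_zero]
  | add x y hx hy => simp only [map_add, hx, hy]
  | tmul x w' =>
    induction x using TensorProduct.induction_on with
    | zero => simp only [map_zero, TensorProduct.zero_tmul]
    | add x y hx hy => simp only [map_add, TensorProduct.add_tmul, hx, hy]
    | tmul v w =>
      change (ComodTens.Comod.tensor (ComodTens.Comod.tensor c F') F).coact ((v ⊗ₜ[R] w') ⊗ₜ[R] w) = _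
      rw [tensor_coact, tensor_coact, tensor_coact, tensor_coact, rightComm_bb]

omit [Bialgebra R O] in
lemma rightComm_nat {V V' W W' : Type u} [AddCommGroup V] [Module R V] [AddCommGroup V'] [Module R V']
    [AddCommGroup W] [Module R W] [AddCommGroup W'] [Module R W'] (f : V →ₗ[R] V') (z : (V ⊗[R] W) ⊗[R] W') :
    TensorProduct.rightComm R V' W W' ((f.rTensor W).rTensor W' z) =
      (f.rTensor W').rTensor W (TensorProduct.rightComm R V W W' z) := by
  induction z using TensorProduct.induction_on with
  | zero => simp only [map_zero]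
  | add x y hx hy => simp only [map_add, hx, hy]
  | tmul x w' =>
    induction x using TensorProduct.induction_on with
    | zero => simp only [map_zero, TensorProduct.zero_tmul]
    | add x y hx hy => simp only [map_add, TensorProduct.add_tmul, hx, hy]
    | tmul v w => rfl

variable {W : Type u} [AddCommGroup W] [Module R W] (F : HopfRep.Comod R O W)
  {W' : Type u} [AddCommGroup W'] [Module R W'] (F' : HopfRep.Comod R O W')

/-- Twists commute: `(M ⊗ F) ⊗ F' ≅ (M ⊗ F') ⊗ F`. -/
def twComm : twR F ⋙ twR F' ≅ twR F' ⋙ twR F :=
  NatIso.ofComponents (fun M => Comonad.Coalgebra.isoMk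
    (A := (twR F ⋙ twR F').obj M) (B := (twR F' ⋙ twR F).obj M)
    (TensorProduct.rightComm R M.A W W').toModuleIso (by
      ext : 1
      exact LinearMap.ext fun z => (tensor_rightComm (toComod M) F F' z).symm)) (fun {M N} f => by
    ext : 2
    exact LinearMap.ext fun z => rightComm_nat f.f.hom z)

lemma twComm_hom_app_hom (M : (GO R O).Coalgebra) :
    ((twComm F F').hom.app M).f.hom = (TensorProduct.rightComm R M.A W W').toLinearMap := rfl

end Comm

/-! ### The shear -/

section Shear

variable (R) (P : Type u) [CommRing P] [HopfAlgebra R P]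

/-- **The shear** `M ⊗ P ≅ cofree (forget M)`, `m ⊗ x ↦ m₀ ⊗ m₁ x`, `P` with its regular coaction. -/
def shearR : twR (HopfRep.Comod.regular R P) ≅ (GO R P).forget ⋙ (GO R P).cofree :=
  NatIso.ofComponents (fun M => Comonad.Coalgebra.isoMk
    (A := (twR (HopfRep.Comod.regular R P)).obj M) (B := ((GO R P).forget ⋙ (GO R P).cofree).obj M)
    (LinearEquiv.toModuleIso
      { toFun := shear (toComod M)
        invFun := shearInv (toComod M)
        left_inv := shearInv_shear (toComod M)
        right_inv := shear_shearInv (toComod M)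
        map_add' := map_add _
        map_smul' := map_smul (shear (toComod M)) : M.A ⊗[R] P ≃ₗ[R] M.A ⊗[R] P }) (by
      ext : 1
      exact LinearMap.ext fun z => (shear_hom (toComod M) z).symm)) (fun {M N} f => by
    ext : 2
    exact LinearMap.ext fun z => shear_nat (toComod M) (toComod N) f.f.hom (isComodHom_apply f) z)

lemma shearR_hom_app_hom (M : (GO R P).Coalgebra) : ((shearR R P).hom.app M).f.hom = shear (toComod M) := rfl

end Shear

end Groth.Agent.ResProp.EF.K679.TwR
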